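import Groth.Agent.TorsHartogsLib.Algebra

/-!
# Extension of morphisms from a finite locally free scheme to a scheme affine over the base
-/

set_option autoImplicit false
set_option backward.isDefEq.respectTransparency false
set_option linter.style.haveILetI false

noncomputable section

universe u

open CategoryTheory CategoryTheory.Limits AlgebraicGeometry TopologicalSpace Opposite

namespace Groth.Agent.TorsHartogs

variable {X : Scheme.{u}} (U : X.Opens) [QuasiCompact U.ι]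

/-- The local rings outside `U` are regular of dimension at least two. -/
def RegOff : Prop := ∀ z : X, z ∉ U →
  IsRegularLocalRing (X.presheaf.stalk z) ∧ (2 : WithBot ℕ∞) ≤ ringKrullDim (X.presheaf.stalk z)

variable {U} (hZ : RegOff U) {Q : Scheme.{u}} (π : Q ⟶ X) [IsFinite π] [Flat π] [LocallyOfFinitePresentation π]

theorem isCompact_inter {V : X.Opens} (hV : IsAffineOpen V) : IsCompact ((V ⊓ U : X.Opens) : Set X) := by
  have h := (U.ι.isCompact_preimage hV.isCompact).image U.ι.continuous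
  rwa [Scheme.Hom.coe_preimage, Set.image_preimage_eq_inter_range, Scheme.Opens.range_ι] at h

theorem exists_basicOpens {V : X.Opens} (hV : IsAffineOpen V) :
    ∃ (n : ℕ) (f : Fin n → Γ(X, V)), V ⊓ U = ⨆ i, X.basicOpen (f i) := by
  choose f hfle hfmem using fun x : (V ⊓ U : X.Opens) => hV.exists_basicOpen_le (V := U) ⟨x.1, x.2.2⟩ x.2.1
  obtain ⟨t, ht⟩ := (isCompact_inter hV).elim_finite_subcover (fun x : (V ⊓ U : X.Opens) => (X.basicOpen (f x) : Set X))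
    (fun x => (X.basicOpen (f x)).2) (fun x hx => Set.mem_iUnion.2 ⟨⟨x, hx⟩, hfmem ⟨x, hx⟩⟩)
  refine ⟨t.card, fun i => f (t.equivFin.symm i).1, le_antisymm (fun x hx => ?_) (iSup_le fun i => ?_)⟩
  · obtain ⟨y, hy, hxy⟩ := Set.mem_iUnion₂.1 (ht hx)
    exact Opens.mem_iSup.2 ⟨t.equivFin ⟨y, hy⟩, by beta_reduce; rw [Equiv.symm_apply_apply]; exact hxy⟩
  · exact le_inf (X.basicOpen_le _) (hfle _)

/-- Restriction of sections. -/
def rs {Q : Scheme.{u}} {A B : Q.Opens} (h : B ≤ A) : Γ(Q, A) →+* Γ(Q, B) := (Q.presheaf.map (homOfLE h).op).hom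

theorem rs_rs {Q : Scheme.{u}} {A B C : Q.Opens} (h : B ≤ A) (h' : C ≤ B) (x : Γ(Q, A)) :
    rs h' (rs h x) = rs (h'.trans h) x := by
  show (Q.presheaf.map (homOfLE h).op ≫ Q.presheaf.map (homOfLE h').op).hom x = _
  rw [← Functor.map_comp]; rfl

include hZ in
/-- Sections of a finite locally free scheme extend uniquely across the complement of `U`. -/
theorem bijective_res {V : X.Opens} (hV : IsAffineOpen V) :
    Function.Bijective (Q.presheaf.map (homOfLE (inf_le_left : π ⁻¹ᵁ V ⊓ π ⁻¹ᵁ U ≤ π ⁻¹ᵁ V)).op).hom := by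
  let W := π ⁻¹ᵁ V
  let W' := W ⊓ π ⁻¹ᵁ U
  let res : Γ(Q, W) →+* Γ(Q, W') := rs inf_le_left
  have hW : IsAffineOpen W := hV.preimage π
  have hW'q : IsCompact (W' : Set Q) := by
    have h := π.isCompact_preimage (isCompact_inter (U := U) hV)
    exact h
  have hW's : IsQuasiSeparated (W' : Set Q) :=
    hW.isQuasiSeparated.of_subset (inf_le_left : W' ≤ W)
  obtain ⟨n, f, hf⟩ := exists_basicOpens (U := U) hV
  letI := (π.app V).hom.toAlgebra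
  letI := (res.comp (π.app V).hom).toAlgebra
  let ψ : Γ(Q, W) →ₗ[Γ(X, V)] Γ(Q, W') :=
    { toFun := res
      map_add' := map_add res
      map_smul' := fun r c => map_mul res _ c }
  haveI : Module.Projective Γ(X, V) Γ(Q, W) := by
    have happ : π.app V = π.appLE V W le_rfl := π.app_eq_appLE
    haveI : Module.Finite Γ(X, V) Γ(Q, W) := π.finite_app V hV
    haveI : Algebra.FinitePresentation Γ(X, V) Γ(Q, W) := by
      have h := π.finitePresentation_appLE hV hW le_rfl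
      rwa [← happ] at h
    haveI : Module.Flat Γ(X, V) Γ(Q, W) := by
      have h := π.flat_appLE hV hW le_rfl
      rwa [← happ] at h
    haveI : Module.FinitePresentation Γ(X, V) Γ(Q, W) :=
      Module.FinitePresentation.of_finite_of_finitePresentation _ _
    exact Module.Flat.projective_of_finitePresentation
  -- the basic opens
  let c : Fin n → Γ(Q, W) := fun i => π.app V (f i)
  have hb : ∀ i, Q.basicOpen (c i) = π ⁻¹ᵁ X.basicOpen (f i) := fun i => (Scheme.preimage_basicOpen π (f i)).symm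
  have hle : ∀ i, π ⁻¹ᵁ X.basicOpen (f i) ≤ W' := fun i =>
    le_inf (π.preimage_mono (X.basicOpen_le _))
      (π.preimage_mono (((le_iSup (fun j => X.basicOpen (f j)) i).trans hf.ge).trans inf_le_right))
  have hb' : ∀ i, Q.basicOpen (res (c i)) = π ⁻¹ᵁ X.basicOpen (f i) := fun i => by
    show Q.basicOpen ((Q.presheaf.map _).hom (c i)) = _
    rw [Scheme.basicOpen_res, hb]
    exact inf_eq_right.2 (hle i)
  have hsmul : ∀ (i : Fin n) (k : ℕ) (x : Γ(Q, W')), f i ^ k • x = res (c i) ^ k * x := fun i k x => by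
    show (res.comp (π.app V).hom) (f i ^ k) * x = _
    rw [map_pow]; rfl
  refine bijective (f := f) (ψ := ψ) ?_ ?_ ?_ ?_
  · intro p _ hp
    let z : X := hV.fromSpec ⟨p, ‹_›⟩
    have hzV : z ∈ V := by
      rw [← SetLike.mem_coe, ← hV.range_fromSpec]; exact ⟨_, rfl⟩
    have hzU : z ∉ U := fun h => by
      have hz : z ∈ V ⊓ U := ⟨hzV, h⟩
      rw [hf, Opens.mem_iSup] at hz
      obtain ⟨i, hi⟩ := hz
      have h2 : (⟨p, ‹_›⟩ : PrimeSpectrum Γ(X, V)) ∈ hV.fromSpec ⁻¹ᵁ X.basicOpen (f i) := hi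
      rw [IsAffineOpen.fromSpec_preimage_basicOpen] at h2
      exact h2 (hp i)
    obtain ⟨h1, h2⟩ := hZ z hzU
    letI := TopCat.Presheaf.algebra_section_stalk X.presheaf (U := V) ⟨z, hzV⟩
    haveI : IsLocalization.AtPrime (X.presheaf.stalk z) p := hV.isLocalization_stalk' ⟨p, ‹_›⟩ hzV
    let e : X.presheaf.stalk z ≃+* Localization.AtPrime p :=
      (IsLocalization.algEquiv p.primeCompl (X.presheaf.stalk z) (Localization.AtPrime p)).toRingEquiv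
    haveI := h1
    exact ⟨IsRegularLocalRing.of_ringEquiv e, ringKrullDim_eq_of_ringEquiv e ▸ h2⟩
  · intro x i
    obtain ⟨k, y, hy⟩ := exists_eq_pow_mul_of_isCompact_of_isQuasiSeparated Q W hW.isCompact hW.isQuasiSeparated (c i)
      (rs (le_trans (hb i).le (hle i)) x)
    obtain ⟨N, hN⟩ := exists_pow_mul_eq_zero_of_res_basicOpen_eq_zero_of_isCompact Q hW'q
      (res y - res (c i) ^ k * x) (res (c i)) (by
        dsimp only [TopCat.Presheaf.restrictOpenCommRingCat_apply] at hy ⊢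
        change rs (Q.basicOpen_le _) y = rs (Q.basicOpen_le _) (c i) ^ k * _ at hy
        show rs (Q.basicOpen_le (res (c i))) (res y - res (c i) ^ k * x) = 0
        have h := congrArg (rs ((hb' i).le.trans (hb i).ge)) hy
        simp only [map_mul, map_pow, rs_rs] at h
        simp only [res, map_sub, map_mul, map_pow, rs_rs]
        exact sub_eq_zero.2 h)
    refine ⟨N + k, c i ^ N * y, ?_⟩
    rw [hsmul]
    show res (c i) ^ (N + k) * x = res (c i ^ N * y)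
    rw [map_mul, map_pow]
    linear_combination -hN
  · intro x hx i
    obtain ⟨N, hN⟩ := exists_pow_mul_eq_zero_of_res_basicOpen_eq_zero_of_isAffineOpen Q hW x (c i) (by
      dsimp only [TopCat.Presheaf.restrictOpenCommRingCat_apply]
      show rs (Q.basicOpen_le _) x = 0
      have h := congrArg (rs ((hb i).le.trans (hle i))) (show res x = 0 from hx)
      simpa only [res, rs_rs, map_zero] using h)
    refine ⟨N, ?_⟩
    show (π.app V).hom (f i ^ N) * x = 0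
    rw [map_pow]; exact hN
  · intro x hx
    refine TopCat.Sheaf.eq_of_locally_eq' Q.sheaf (fun i => Q.basicOpen (res (c i))) W'
      (fun i => homOfLE (Q.basicOpen_le _)) ?_ x 0 fun i => ?_
    · intro q hq
      have hz : π q ∈ V ⊓ U := ⟨hq.1, hq.2⟩
      rw [hf, Opens.mem_iSup] at hz
      obtain ⟨i, hi⟩ := hz
      exact Opens.mem_iSup.2 ⟨i, (hb' i).ge hi⟩
    · obtain ⟨k, hk⟩ := hx i
      rw [hsmul] at hk
      have h := congrArg (Q.presheaf.map (homOfLE (Q.basicOpen_le (res (c i)))).op).hom hk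
      rw [map_mul, map_pow, map_zero] at h
      exact (((Q.toRingedSpace.isUnit_res_basicOpen (res (c i))).pow k).mul_right_eq_zero.1 h).trans (map_zero _).symm

include hZ in
theorem bijective_appTop {V : X.Opens} (hV : IsAffineOpen V) :
    Function.Bijective (Q.homOfLE (inf_le_left : π ⁻¹ᵁ V ⊓ π ⁻¹ᵁ U ≤ π ⁻¹ᵁ V)).appTop := by
  have h := bijective_res hZ π hV
  haveI : IsIso (Q.presheaf.map (homOfLE (inf_le_left : π ⁻¹ᵁ V ⊓ π ⁻¹ᵁ U ≤ π ⁻¹ᵁ V)).op) :=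
    (ConcreteCategory.isIso_iff_bijective _).2 h
  haveI : IsIso (Q.homOfLE (inf_le_left : π ⁻¹ᵁ V ⊓ π ⁻¹ᵁ U ≤ π ⁻¹ᵁ V)).appTop := by
    rw [Scheme.homOfLE_appTop]
    have e : (homOfLE (Q.ι_image_homOfLE_le_ι_image (inf_le_left : π ⁻¹ᵁ V ⊓ π ⁻¹ᵁ U ≤ π ⁻¹ᵁ V) ⊤)).op =
        (eqToHom (Scheme.Opens.ι_image_top (π ⁻¹ᵁ V)).symm).op ≫
          (homOfLE (inf_le_left : π ⁻¹ᵁ V ⊓ π ⁻¹ᵁ U ≤ π ⁻¹ᵁ V)).op ≫ (eqToHom (Scheme.Opens.ι_image_top _)).op :=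
      Subsingleton.elim _ _
    rw [e, Functor.map_comp, Functor.map_comp]
    infer_instance
  exact ConcreteCategory.bijective_of_isIso (Q.homOfLE (inf_le_left : π ⁻¹ᵁ V ⊓ π ⁻¹ᵁ U ≤ π ⁻¹ᵁ V)).appTop

include hZ in
theorem ext_affine {V : X.Opens} (hV : IsAffineOpen V) {Z : Scheme.{u}} [IsAffine Z]
    {a b : (π ⁻¹ᵁ V : Scheme.{u}) ⟶ Z}
    (h : Q.homOfLE (inf_le_left : π ⁻¹ᵁ V ⊓ π ⁻¹ᵁ U ≤ π ⁻¹ᵁ V) ≫ a = Q.homOfLE inf_le_left ≫ b) : a = b := by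
  refine ext_of_isAffine ?_
  ext t
  apply (bijective_appTop hZ π hV).1
  have := congrArg (fun m => (Scheme.Hom.appTop m) t) h
  simpa only [Scheme.Hom.comp_appTop, ConcreteCategory.comp_apply] using this

include hZ in
/-- Two morphisms to a scheme affine over the base which agree over `U` agree. -/
theorem hom_ext_on (O : X.Opens) {Y : Scheme.{u}} {p : Y ⟶ X} [IsAffineHom p] {f g : (π ⁻¹ᵁ O : Scheme.{u}) ⟶ Y}
    (hf : f ≫ p = (π ⁻¹ᵁ O).ι ≫ π) (hg : g ≫ p = (π ⁻¹ᵁ O).ι ≫ π)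
    (h : Q.homOfLE (inf_le_left : π ⁻¹ᵁ O ⊓ π ⁻¹ᵁ U ≤ π ⁻¹ᵁ O) ≫ f = Q.homOfLE inf_le_left ≫ g) : f = g := by
  let J := {V : X.affineOpens // V.1 ≤ O}
  let 𝒰 : (π ⁻¹ᵁ O : Scheme.{u}).OpenCover :=
    Scheme.openCoverOfIsOpenCover _ (fun V : J => (π ⁻¹ᵁ O).ι ⁻¹ᵁ π ⁻¹ᵁ V.1.1) (TopologicalSpace.IsOpenCover.mk (by
      refine top_le_iff.1 fun q _ => ?_
      obtain ⟨V, hV, hqV, hVO⟩ := exists_isAffineOpen_mem_and_subset (X := X) (x := π q.1) (U := O) q.2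
      exact Opens.mem_iSup.2 ⟨⟨⟨V, hV⟩, hVO⟩, hqV⟩))
  refine 𝒰.hom_ext _ _ fun V => ?_
  have hVO : π ⁻¹ᵁ V.1.1 ≤ π ⁻¹ᵁ O := π.preimage_mono V.2
  let k := Q.homOfLE hVO
  suffices hk : k ≫ f = k ≫ g by
    let r : (((π ⁻¹ᵁ O).ι ⁻¹ᵁ π ⁻¹ᵁ V.1.1 : (π ⁻¹ᵁ O : Scheme.{u}).Opens) : Scheme.{u}) ⟶ (π ⁻¹ᵁ V.1.1 : Scheme.{u}) :=
      IsOpenImmersion.lift (π ⁻¹ᵁ V.1.1).ι (((π ⁻¹ᵁ O).ι ⁻¹ᵁ π ⁻¹ᵁ V.1.1).ι ≫ (π ⁻¹ᵁ O).ι) (by
        rintro _ ⟨q, rfl⟩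
        rw [Scheme.Opens.range_ι]
        exact q.2)
    have hr : 𝒰.f V = r ≫ k := by
      rw [← cancel_mono (π ⁻¹ᵁ O).ι, Category.assoc, Scheme.homOfLE_ι, IsOpenImmersion.lift_fac]
      rfl
    rw [hr, Category.assoc, Category.assoc, hk]
  let T := p ⁻¹ᵁ V.1.1
  haveI : IsAffine (T : Scheme.{u}) := V.1.2.preimage p
  have hle : ∀ (e : (π ⁻¹ᵁ O : Scheme.{u}) ⟶ Y), e ≫ p = (π ⁻¹ᵁ O).ι ≫ π → Set.range (k ≫ e) ⊆ Set.range T.ι := by
    intro e he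
    rintro _ ⟨q, rfl⟩
    rw [Scheme.Opens.range_ι]
    show p ((k ≫ e) q) ∈ V.1.1
    rw [← Scheme.Hom.comp_apply, Category.assoc, he, Scheme.homOfLE_ι_assoc]
    exact q.2
  rw [← IsOpenImmersion.lift_fac T.ι _ (hle f hf), ← IsOpenImmersion.lift_fac T.ι _ (hle g hg)]
  congr 1
  refine ext_affine hZ π V.1.2 ?_
  rw [← cancel_mono T.ι]
  simp only [Category.assoc, IsOpenImmersion.lift_fac, k, Scheme.homOfLE_homOfLE_assoc]
  rw [← Q.homOfLE_homOfLE (inf_le_inf_right _ hVO : π ⁻¹ᵁ V.1.1 ⊓ π ⁻¹ᵁ U ≤ π ⁻¹ᵁ O ⊓ π ⁻¹ᵁ U) inf_le_left,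
    Category.assoc, Category.assoc, h]

include hZ in
/-- Two morphisms to a scheme affine over the base which agree over `U` agree. -/
theorem hom_ext {Y : Scheme.{u}} {p : Y ⟶ X} [IsAffineHom p] {f g : Q ⟶ Y} (hf : f ≫ p = π) (hg : g ≫ p = π)
    (h : (π ⁻¹ᵁ U).ι ≫ f = (π ⁻¹ᵁ U).ι ≫ g) : f = g := by
  have e := hom_ext_on hZ π ⊤ (f := (π ⁻¹ᵁ ⊤).ι ≫ f) (g := (π ⁻¹ᵁ ⊤).ι ≫ g) (p := p) (by rw [Category.assoc, hf])
    (by rw [Category.assoc, hg]) (by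
      rw [Scheme.homOfLE_ι_assoc, Scheme.homOfLE_ι_assoc,
        ← Q.homOfLE_ι (inf_le_right : π ⁻¹ᵁ ⊤ ⊓ π ⁻¹ᵁ U ≤ π ⁻¹ᵁ U), Category.assoc, Category.assoc, h])
  haveI : IsIso (π ⁻¹ᵁ ⊤).ι := by rw [Scheme.Hom.preimage_top]; exact (Scheme.topIso Q).isIso_hom
  exact (cancel_epi _).1 e

include hZ in
/-- A morphism over `U` to a scheme affine over the base extends. -/
theorem exists_extension {Y : Scheme.{u}} {p : Y ⟶ X} [IsAffineHom p] (f' : (π ⁻¹ᵁ U : Scheme.{u}) ⟶ Y)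
    (hf' : f' ≫ p = (π ⁻¹ᵁ U).ι ≫ π) : ∃ f : Q ⟶ Y, f ≫ p = π ∧ (π ⁻¹ᵁ U).ι ≫ f = f' := by
  have key : ∀ V : X.affineOpens, ∃ g : (π ⁻¹ᵁ V.1 : Scheme.{u}) ⟶ Y, g ≫ p = (π ⁻¹ᵁ V.1).ι ≫ π ∧
      Q.homOfLE (inf_le_left : π ⁻¹ᵁ V.1 ⊓ π ⁻¹ᵁ U ≤ π ⁻¹ᵁ V.1) ≫ g = Q.homOfLE inf_le_right ≫ f' := by
    intro V
    let j := Q.homOfLE (inf_le_left : π ⁻¹ᵁ V.1 ⊓ π ⁻¹ᵁ U ≤ π ⁻¹ᵁ V.1)
    let T := p ⁻¹ᵁ V.1
    haveI : IsAffine (T : Scheme.{u}) := V.2.preimage p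
    haveI : IsAffine (π ⁻¹ᵁ V.1 : Scheme.{u}) := V.2.preimage π
    haveI : IsAffine (V.1 : Scheme.{u}) := V.2
    let m := IsOpenImmersion.lift T.ι (Q.homOfLE (inf_le_right : π ⁻¹ᵁ V.1 ⊓ π ⁻¹ᵁ U ≤ π ⁻¹ᵁ U) ≫ f') (by
      rintro _ ⟨q, rfl⟩
      rw [Scheme.Opens.range_ι]
      show p _ ∈ V.1
      rw [← Scheme.Hom.comp_apply, Category.assoc, hf', Scheme.homOfLE_ι_assoc]
      exact q.2.1)
    haveI : IsIso j.appTop := (ConcreteCategory.isIso_iff_bijective _).2 (bijective_appTop hZ π V.2)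
    let g := (π ⁻¹ᵁ V.1 : Scheme.{u}).toSpecΓ ≫ Spec.map (m.appTop ≫ inv j.appTop) ≫ (T : Scheme.{u}).isoSpec.inv
    have hjg : j ≫ g = m := by
      simp only [g, Scheme.toSpecΓ_naturality_assoc, ← Spec.map_comp_assoc, Category.assoc, IsIso.inv_hom_id,
        Category.comp_id]
      rw [← Scheme.toSpecΓ_naturality_assoc]
      exact (congrArg (m ≫ ·) (T : Scheme.{u}).isoSpec.hom_inv_id).trans (Category.comp_id m)
    refine ⟨g ≫ T.ι, ?_, by rw [← Category.assoc, hjg, IsOpenImmersion.lift_fac]⟩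
    have e : g ≫ p.resLE V.1 T le_rfl = π.resLE V.1 (π ⁻¹ᵁ V.1) le_rfl := by
      refine ext_affine hZ π V.2 ?_
      rw [← cancel_mono V.1.ι]
      simp only [Category.assoc, Scheme.Hom.resLE_comp_ι]
      rw [reassoc_of% hjg, IsOpenImmersion.lift_fac_assoc, Category.assoc, hf', Scheme.homOfLE_ι_assoc,
        Scheme.homOfLE_ι_assoc]
    rw [Category.assoc, ← Scheme.Hom.resLE_comp_ι p (le_refl T), ← Category.assoc, e, Scheme.Hom.resLE_comp_ι]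
  choose g hgp hgU using key
  let 𝒰 : Q.OpenCover := Scheme.openCoverOfIsOpenCover Q (fun V : X.affineOpens => π ⁻¹ᵁ V.1)
    (TopologicalSpace.IsOpenCover.mk (by rw [← Scheme.Hom.preimage_iSup, iSup_affineOpens_eq_top, Scheme.Hom.preimage_top]))
  have hov : ∀ V W : X.affineOpens, Q.homOfLE (π.preimage_mono (inf_le_left : V.1 ⊓ W.1 ≤ V.1)) ≫ g V =
      Q.homOfLE (π.preimage_mono (inf_le_right : V.1 ⊓ W.1 ≤ W.1)) ≫ g W := by
    intro V W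
    refine hom_ext_on hZ π (V.1 ⊓ W.1) (p := p) (by rw [Category.assoc, hgp, Scheme.homOfLE_ι_assoc])
      (by rw [Category.assoc, hgp, Scheme.homOfLE_ι_assoc]) ?_
    have a : ∀ (V' : X.affineOpens) (h : V.1 ⊓ W.1 ≤ V'.1),
        Q.homOfLE (inf_le_left : π ⁻¹ᵁ (V.1 ⊓ W.1) ⊓ π ⁻¹ᵁ U ≤ π ⁻¹ᵁ (V.1 ⊓ W.1)) ≫ Q.homOfLE (π.preimage_mono h) ≫
          g V' = Q.homOfLE inf_le_right ≫ f' := fun V' h => by
      rw [Scheme.homOfLE_homOfLE_assoc,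
        ← Q.homOfLE_homOfLE (inf_le_inf_right _ (π.preimage_mono h)) inf_le_left, Category.assoc, hgU,
        Scheme.homOfLE_homOfLE_assoc]
    rw [a V inf_le_left, a W inf_le_right]
  have hcomp : ∀ V W : 𝒰.I₀, pullback.fst (𝒰.f V) (𝒰.f W) ≫ g V = pullback.snd (𝒰.f V) (𝒰.f W) ≫ g W := by
    intro (V : X.affineOpens) (W : X.affineOpens)
    let l : pullback (π ⁻¹ᵁ V.1).ι (π ⁻¹ᵁ W.1).ι ⟶ (π ⁻¹ᵁ (V.1 ⊓ W.1) : Scheme.{u}) :=
      IsOpenImmersion.lift (π ⁻¹ᵁ (V.1 ⊓ W.1)).ι (pullback.fst _ _ ≫ (π ⁻¹ᵁ V.1).ι) (by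
        rintro _ ⟨q, rfl⟩
        rw [Scheme.Opens.range_ι]
        refine ⟨(pullback.fst (π ⁻¹ᵁ V.1).ι (π ⁻¹ᵁ W.1).ι q).2, ?_⟩
        rw [pullback.condition]
        exact (pullback.snd (π ⁻¹ᵁ V.1).ι (π ⁻¹ᵁ W.1).ι q).2)
    have h1 : l ≫ Q.homOfLE (π.preimage_mono (inf_le_left : V.1 ⊓ W.1 ≤ V.1)) = pullback.fst _ _ := by
      rw [← cancel_mono (π ⁻¹ᵁ V.1).ι, Category.assoc, Scheme.homOfLE_ι, IsOpenImmersion.lift_fac]
    have h2 : l ≫ Q.homOfLE (π.preimage_mono (inf_le_right : V.1 ⊓ W.1 ≤ W.1)) = pullback.snd _ _ := by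
      rw [← cancel_mono (π ⁻¹ᵁ W.1).ι, Category.assoc, Scheme.homOfLE_ι, IsOpenImmersion.lift_fac, pullback.condition]
    show pullback.fst (π ⁻¹ᵁ V.1).ι (π ⁻¹ᵁ W.1).ι ≫ g V = pullback.snd (π ⁻¹ᵁ V.1).ι (π ⁻¹ᵁ W.1).ι ≫ g W
    rw [← h1, ← h2, Category.assoc, Category.assoc, hov]
  refine ⟨𝒰.glueMorphisms g hcomp, 𝒰.hom_ext _ _ fun V => ?_, ?_⟩
  · rw [Scheme.Cover.ι_glueMorphisms_assoc]; exact hgp V
  · let O : X.affineOpens → (π ⁻¹ᵁ U : Scheme.{u}).Opens := fun V => (π ⁻¹ᵁ U).ι ⁻¹ᵁ π ⁻¹ᵁ V.1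
    let 𝒱 : (π ⁻¹ᵁ U : Scheme.{u}).OpenCover := Scheme.openCoverOfIsOpenCover _ O (TopologicalSpace.IsOpenCover.mk (by
      refine top_le_iff.1 fun q _ => ?_
      obtain ⟨V, hV, hqV, -⟩ := exists_isAffineOpen_mem_and_subset (X := X) (x := π q.1) (U := ⊤) trivial
      exact Opens.mem_iSup.2 ⟨⟨V, hV⟩, hqV⟩))
    refine 𝒱.hom_ext _ _ fun (V : X.affineOpens) => ?_
    let r : (O V : Scheme.{u}) ⟶ (π ⁻¹ᵁ V.1 ⊓ π ⁻¹ᵁ U : Q.Opens) :=
      IsOpenImmersion.lift (π ⁻¹ᵁ V.1 ⊓ π ⁻¹ᵁ U).ι ((O V).ι ≫ (π ⁻¹ᵁ U).ι) (by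
        rintro _ ⟨q, rfl⟩
        rw [Scheme.Opens.range_ι]
        exact ⟨q.2, q.1.2⟩)
    have hr : r ≫ Q.homOfLE inf_le_right = (O V).ι := by
      rw [← cancel_mono (π ⁻¹ᵁ U).ι, Category.assoc, Scheme.homOfLE_ι, IsOpenImmersion.lift_fac]
    show (O V).ι ≫ (π ⁻¹ᵁ U).ι ≫ _ = (O V).ι ≫ f'
    rw [← hr, Category.assoc, Scheme.homOfLE_ι_assoc, Category.assoc, ← hgU V,
      ← Q.homOfLE_ι (inf_le_left : π ⁻¹ᵁ V.1 ⊓ π ⁻¹ᵁ U ≤ π ⁻¹ᵁ V.1), Category.assoc]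
    congr 2
    exact 𝒰.ι_glueMorphisms g hcomp V

end Groth.Agent.TorsHartogs
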