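import Mathlib
import Groth.Agent.PurityLib.Hull
import Groth.Agent.PurityLib.Prep
import Groth.Agent.CommAlgDim.Regular

/-!
# Hartogs for projective modules along a finite union of basic opens with regular complement
-/

set_option autoImplicit false
set_option linter.style.haveILetI false

universe u

open IsLocalRing

namespace Groth.Agent.TorsHartogs

variable {A : Type u} [CommRing A] {C D : Type u} [AddCommGroup C] [Module A C] [AddCommGroup D] [Module A D]
  {ι : Type} [Finite ι] (f : ι → A) (ψ : C →ₗ[A] D)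

/-- The conditions on a prime outside the open. -/
def GoodOff : Prop := ∀ p : Ideal A, ∀ [p.IsPrime], (∀ i, f i ∈ p) →
  IsRegularLocalRing (Localization.AtPrime p) ∧ (2 : WithBot ℕ∞) ≤ ringKrullDim (Localization.AtPrime p)

variable {f ψ}

/-- Below a bad prime, a prime of height at most one misses one of the `f i`. -/
theorem exists_notMem (hf : GoodOff f) (m : Ideal A) [m.IsPrime] (q : Ideal (Localization.AtPrime m)) [q.IsPrime]
    (hq : q.height ≤ 1) : ∃ i, algebraMap A (Localization.AtPrime m) (f i) ∉ q := by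
  by_contra h
  push_neg at h
  let p := q.comap (algebraMap A (Localization.AtPrime m))
  obtain ⟨-, h2⟩ := hf p h
  rw [IsLocalization.AtPrime.ringKrullDim_eq_height p, IsLocalization.height_comap m.primeCompl] at h2
  exact absurd ((WithBot.coe_le_coe.1 h2).trans hq) (by norm_num)

variable [Module.Projective A C] (hf : GoodOff f)
  (h1 : ∀ (x : D) (i : ι), ∃ (n : ℕ) (c : C), f i ^ n • x = ψ c)
  (h2 : ∀ (c : C), ψ c = 0 → ∀ i, ∃ n : ℕ, f i ^ n • c = 0)
  (h3 : ∀ x : D, (∀ i, ∃ n : ℕ, f i ^ n • x = 0) → x = 0)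

include hf h2 in
theorem injective_aux {c : C} (hc : ψ c = 0) : c = 0 := by
  obtain ⟨s, hs⟩ := ‹Module.Projective A C›.out
  refine (hs c).symm.trans ?_
  suffices s c = 0 by rw [this, map_zero]
  refine Finsupp.ext fun k => ?_
  let a := s c k
  show a = 0
  refine eq_zero_of_localization a fun m hm => ?_
  have ha : ∀ i, ∃ n : ℕ, f i ^ n * a = 0 := fun i => by
    obtain ⟨n, hn⟩ := h2 c hc i
    refine ⟨n, ?_⟩
    have := congrArg (fun c => s c k) hn
    simpa using this
  by_cases hm' : ∀ i, f i ∈ m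
  · obtain ⟨hreg, -⟩ := hf m hm'
    haveI := hreg
    haveI := CommAlgDim.isDomain_of_isRegularLocalRing (Localization.AtPrime m)
    obtain ⟨i, hi⟩ := exists_notMem hf m ⊥ (by simp)
    obtain ⟨n, hn⟩ := ha i
    have := congrArg (algebraMap A (Localization.AtPrime m)) hn
    rw [map_mul, map_pow, map_zero, mul_eq_zero] at this
    exact this.resolve_left (pow_ne_zero _ fun h => hi (h ▸ Ideal.zero_mem _))
  · push_neg at hm'
    obtain ⟨i, hi⟩ := hm'
    obtain ⟨n, hn⟩ := ha i
    exact (IsLocalization.map_eq_zero_iff m.primeCompl _ _).2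
      ⟨⟨f i ^ n, fun h => hi (hm.isPrime.mem_of_pow_mem n h)⟩, hn⟩

include hf h1 h2 h3 in
/-- Elements of `D` are annihilated modulo the image by an element outside any maximal ideal. -/
theorem surjective_aux (x : D) : ∃ c, ψ c = x := by
  let J := (LinearMap.range ψ).colon {x}
  suffices hJ : J = ⊤ by
    have := Submodule.mem_colon_singleton.1 (show (1 : A) ∈ J by rw [hJ]; trivial)
    rwa [one_smul] at this
  by_contra hJ
  obtain ⟨m, hm, hJm⟩ := Ideal.exists_le_maximal J hJ
  suffices H : ∃ v ∉ m, v • x ∈ LinearMap.range ψ by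
    obtain ⟨v, hv, hvx⟩ := H
    exact hv (hJm (Submodule.mem_colon_singleton.2 hvx))
  by_cases hm' : ∀ i, f i ∈ m
  swap
  · push_neg at hm'
    obtain ⟨i, hi⟩ := hm'
    obtain ⟨n, c, hc⟩ := h1 x i
    exact ⟨f i ^ n, fun h => hi (hm.isPrime.mem_of_pow_mem n h), ⟨c, hc.symm⟩⟩
  obtain ⟨hreg, -⟩ := hf m hm'
  haveI := hreg
  let R := Localization.AtPrime m
  haveI := CommAlgDim.isDomain_of_isRegularLocalRing R
  haveI := PurityLib.ufd_of_regular R
  let g := algebraMap A R
  obtain ⟨i₀, hi₀⟩ := exists_notMem hf m ⊥ (by simp)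
  obtain ⟨n₀, c₀, hc₀⟩ := h1 x i₀
  let t₀ := f i₀ ^ n₀
  have ht₀ : g t₀ ≠ 0 := by
    rw [map_pow]
    exact pow_ne_zero _ fun h => hi₀ (h ▸ Ideal.zero_mem _)
  obtain ⟨s, hs⟩ := ‹Module.Projective A C›.out
  -- divisibility of the coordinates
  have hdiv : ∀ k : C, g t₀ ∣ g (s c₀ k) := fun k => by
    refine PurityLib.dvd_of_forall_height_le_one ht₀ _ fun q _ hq => ?_
    obtain ⟨i, hi⟩ := exists_notMem hf m q hq
    obtain ⟨n, c, hc⟩ := h1 x i
    have h0 : f i ^ n • c₀ = t₀ • c := by
      rw [← sub_eq_zero]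
      refine injective_aux hf h2 ?_
      rw [map_sub, map_smul, map_smul, ← hc₀, ← hc, smul_comm, sub_self]
    refine ⟨g (f i ^ n), fun h => hi ?_, g (s c k), ?_⟩
    · rw [map_pow] at h
      exact Ideal.IsPrime.mem_of_pow_mem ‹_› n h
    · have h' := congrArg (fun c => g (s c k)) h0
      simpa using h'
  -- clear the denominators
  have hloc : ∀ k : C, ∃ v ∉ m, ∃ b : A, v * s c₀ k = t₀ * b := fun k => by
    obtain ⟨d, hd⟩ := hdiv k
    obtain ⟨b, ⟨v, hv⟩, rfl⟩ := IsLocalization.exists_mk'_eq m.primeCompl d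
    have h' : g (v * s c₀ k) = g (t₀ * b) := by
      rw [map_mul, map_mul, hd, mul_comm (g v), mul_assoc]
      congr 1
      exact IsLocalization.mk'_spec R b ⟨v, hv⟩
    obtain ⟨⟨w, hw⟩, hwe⟩ := (IsLocalization.eq_iff_exists m.primeCompl R).1 h'
    exact ⟨w * v, fun h => (hm.isPrime.mem_or_mem h).elim hw hv, w * b, by linear_combination hwe⟩
  choose v hv b hb using hloc
  classical
  let V := ∏ k ∈ (s c₀).support, v k
  have hV : V ∉ m := fun h => by
    obtain ⟨k, -, hk⟩ := (Ideal.IsPrime.prod_mem_iff (hp := hm.isPrime)).1 h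
    exact hv k hk
  obtain ⟨e, he⟩ : ∃ e : C, V • c₀ = t₀ • e := by
    refine ⟨∑ k ∈ (s c₀).support, ((∏ l ∈ (s c₀).support.erase k, v l) * b k) • k, ?_⟩
    conv_lhs => rw [← hs c₀, Finsupp.linearCombination_apply, Finsupp.sum, Finset.smul_sum]
    rw [Finset.smul_sum]
    refine Finset.sum_congr rfl fun k hk => ?_
    rw [smul_smul, smul_smul]
    congr 1
    show (∏ l ∈ (s c₀).support, v l) * _ = _
    rw [← Finset.prod_erase_mul _ _ hk]
    linear_combination (∏ l ∈ (s c₀).support.erase k, v l) * hb k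
  -- torsion
  let y := V • x - ψ e
  have hy : t₀ • y = 0 := by
    rw [smul_sub, smul_comm, hc₀, ← map_smul, ← map_smul, he, sub_self]
  have htors : ∀ i, ∃ w ∉ m, ∃ N : ℕ, f i ^ N • (w • y) = 0 := fun i => by
    obtain ⟨n, c, hc⟩ := h1 y i
    have h0 : t₀ • c = 0 := injective_aux hf h2 (by rw [map_smul, ← hc, smul_comm, hy, smul_zero])
    have hk : ∀ k, g (s c k) = 0 := fun k => by
      have h' := congrArg (fun c => g (s c k)) h0
      simp only [map_smul, map_zero, Finsupp.smul_apply, Finsupp.zero_apply, smul_eq_mul, map_mul, mul_eq_zero] at h'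
      exact h'.resolve_left ht₀
    choose w hw using fun k => (IsLocalization.map_eq_zero_iff m.primeCompl R _).1 (hk k)
    let W := ∏ k ∈ (s c).support, (w k : A)
    have hW : W • c = 0 := by
      rw [← hs c, Finsupp.linearCombination_apply, Finsupp.sum, Finset.smul_sum]
      refine Finset.sum_eq_zero fun k hk' => ?_
      rw [smul_smul]
      convert zero_smul A (id k)
      show (∏ l ∈ (s c).support, (w l : A)) * _ = 0
      rw [← Finset.prod_erase_mul _ _ hk', mul_assoc, hw k, mul_zero]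
    exact ⟨W, fun h => by
      obtain ⟨k, -, hk'⟩ := (Ideal.IsPrime.prod_mem_iff (hp := hm.isPrime)).1 h
      exact (w k).2 hk', n, by rw [smul_comm, hc, ← map_smul, hW, map_zero]⟩
  choose w hw N hN using htors
  haveI := Fintype.ofFinite ι
  let W := ∏ i, w i
  have hW : W ∉ m := fun h => by
    obtain ⟨i, -, hi⟩ := (Ideal.IsPrime.prod_mem_iff (hp := hm.isPrime)).1 h
    exact hw i hi
  have hWy : W • y = 0 := h3 _ fun i => ⟨N i, by
    rw [show W = (∏ l ∈ Finset.univ.erase i, w l) * w i from (Finset.prod_erase_mul _ _ (Finset.mem_univ i)).symm,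
      mul_smul, smul_comm, hN, smul_zero]⟩
  refine ⟨W * V, fun h => (hm.isPrime.mem_or_mem h).elim hW hV, W • e, ?_⟩
  rw [smul_sub, sub_eq_zero] at hWy
  rw [map_smul, ← hWy, smul_smul]

include hf h1 h2 h3 in
theorem bijective : Function.Bijective ψ :=
  ⟨LinearMap.ker_eq_bot.1 (LinearMap.ker_eq_bot'.2 fun _ hc => injective_aux hf h2 hc),
    surjective_aux hf h1 h2 h3⟩

end Groth.Agent.TorsHartogs
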